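import Cfsg.Agent.Lib.Linear.A8Sub
import Cfsg.Agent.Lib.Core.PCore
import Mathlib.GroupTheory.Perm.Centralizer

/-!
# Non-solvable subgroups of `A₈` with a non-trivial solvable normal subgroup of odd order
-/

set_option autoImplicit false

namespace Cfsg.Lib.GH4

open Subgroup Equiv Equiv.Perm Cfsg.Lib.Linear Cfsg.Lib.Linear.A8S

/-- Fixed points of an automorphism of prime order on an invariant subgroup. -/
theorem cardfix {V : Type*} [Group V] [Finite V] {p : ℕ} (hp : p.Prime) (σ : MulAut V) (h : σ ^ p = 1) (W : Subgroup V)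
    (hW : ∀ w ∈ W, σ w ∈ W) : Nat.card W ≡ Nat.card ↥(W ⊓ (σ : V →* V).eqLocus (MonoidHom.id V)) [MOD p] := by
  classical
  have := Fact.mk hp
  have := Fintype.ofFinite W
  let f : Function.End W := fun w => ⟨σ w, hW _ w.2⟩
  have h1 : ∀ n (w : W), ((f ^ n) w : V) = (σ ^ n) w := fun n => by
    induction n with
    | zero => exact fun _ => rfl
    | succ n ih => intro w; rw [pow_succ, pow_succ]; exact ih (f w)
  have h2 := card_fixedPoints_modEq (f := f) (p := p) (n := 1) (funext fun w => Subtype.ext (by rw [h1, pow_one, h]; rfl))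
  rw [← Nat.card_eq_fintype_card, ← Nat.card_eq_fintype_card] at h2
  refine h2.trans (by
    rw [Nat.card_congr (β := ↥(W ⊓ (σ : V →* V).eqLocus (MonoidHom.id V)))
      ⟨fun w => ⟨w.1.1, w.1.2, congrArg Subtype.val w.2⟩, fun w => ⟨⟨w.1, w.2.1⟩, Subtype.ext w.2.2⟩, fun _ => rfl, fun _ => rfl⟩])

theorem cent8 (x : Perm (Fin 8)) {p : ℕ} (hp : p.Prime) (h2 : p ≠ 2) (hx : orderOf x = p) :
    (p = 7 ∧ Nat.card (centralizer {x}) = 7) ∨ (p = 5 ∧ Nat.card (centralizer {x}) = 30) ∨
      (p = 3 ∧ (x.IsThreeCycle ∨ Nat.card (centralizer {x}) = 36)) := by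
  obtain ⟨n, hn⟩ := cycleType_prime_order (hx ▸ hp)
  have h1 := x.sum_cycleType ▸ Finset.card_le_univ x.support
  have h3 := nat_card_centralizer x
  have h4 := hp.two_le
  rw [hn, hx] at h1 h3
  simp only [Multiset.sum_replicate, smul_eq_mul, Fintype.card_fin] at h1
  have h5 : p ≤ 8 := by nlinarith
  have h6 : n ≤ 1 := by by_contra e; nlinarith [show 3 ≤ p by omega]
  rw [hx] at hn
  interval_cases p <;> interval_cases n <;> first | omega | (norm_num at hp; done) | skip
  · exact .inr (.inr ⟨rfl, .inl hn⟩)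
  · exact .inr (.inr ⟨rfl, .inr (h3.trans (by decide))⟩)
  · exact .inr (.inl ⟨rfl, h3.trans (by decide)⟩)
  · exact .inl ⟨rfl, h3.trans (by decide)⟩

universe u

variable {H : Type u} [Group H] [Finite H] (f : H →* Perm (Fin 8)) (hf : Function.Injective f)

omit [Finite H] in
include hf in
theorem cdvd {C : Subgroup H} {x : H} (h : ∀ c ∈ C, c * x = x * c) : Nat.card C ∣ Nat.card (centralizer {f x}) := by
  rw [← card_map_of_injective hf]
  refine card_dvd_of_le ?_
  rintro _ ⟨c, hc, rfl⟩
  rw [mem_centralizer_singleton_iff, ← map_mul, ← map_mul, h c hc]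

theorem a5s5 (h : ¬ Group.IsSolvable H) (g : H →* Perm (Fin 5)) (hg : Function.Injective g) :
    Nonempty (H ≃* alternatingGroup (Fin 5)) ∨ Nonempty (H ≃* Perm (Fin 5)) := by
  have h1 := ge60 h
  obtain ⟨k, hk⟩ := card_dvd_of_injective g hg
  rw [Nat.card_perm, Nat.card_fin] at hk
  have h3 : Nat.factorial 5 = 120 := by decide
  have : k = 1 ∨ k = 2 := by
    have : k ≠ 0 := by rintro rfl; omega
    have : k < 3 := by nlinarith
    omega
  rcases this with rfl | rfl
  · exact .inr (nonempty_equiv_perm_of_injective g hg (by omega))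
  · exact .inl (nonempty_equiv_alternating_of_injective g hg (by omega))

include hf in
theorem three (ev : ∀ h, sign (f h) = 1) (hn : ¬ Group.IsSolvable H) (h2 : pCore 2 H = ⊥) (hR : ¬ RT H) :
    Nat.card (pCore 3 H) = 3 ∧ (Nonempty (H ⧸ pCore 3 H ≃* alternatingGroup (Fin 5)) ∨ Nonempty (H ⧸ pCore 3 H ≃* Perm (Fin 5))) := by
  have hd : Nat.card H ∣ 20160 := card_A8 ▸ card_dvd_of_injective (f.codRestrict (alternatingGroup _) ev)
    fun a b e => hf (congrArg Subtype.val e)
  obtain ⟨p, hp, h1⟩ : ∃ p, p.Prime ∧ pCore p H ≠ ⊥ := by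
    by_contra! e
    refine hR fun N _ _ => ?_
    by_contra h
    obtain ⟨p, hp, h1⟩ := Core.exists_pCore_inf_ne_bot_of_solvable N h
    exact h1 (by rw [e p hp, bot_inf_eq])
  have fp := Fact.mk hp
  have p2 : p ≠ 2 := by rintro rfl; exact h1 h2
  obtain ⟨k, hk⟩ := IsPGroup.iff_card.1 (Core.isPGroup_pCore p H)
  have k0 : k ≠ 0 := by rintro rfl; exact h1 (card_eq_one.1 hk)
  have hM := (card_subgroup_dvd_card (pCore p H)).trans hd
  obtain ⟨⟨x, xM⟩, hx⟩ := exists_prime_orderOf_dvd_card' (G := pCore p H) p (hk ▸ dvd_pow_self p k0)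
  rw [← orderOf_coe] at hx
  change orderOf x = p at hx
  have hz : Nat.card (pCore p H) = p → zpowers x = pCore p H := fun e =>
    eq_of_le_of_card_ge (zpowers_le.2 xM) (by rw [e, Nat.card_zpowers, hx])
  have c57 : Nat.card (pCore p H) = p → p ≤ 7 → Nat.card (centralizer {f x}) < 60 → False := fun e e7 e' => by
    have : IsCyclic (pCore p H) := isCyclic_of_prime_card e
    let φ : H →* MulAut (pCore p H) := MulAut.conjNormal
    have a1 : Nat.card φ.ker < 60 := (Nat.le_of_dvd Nat.card_pos (cdvd f hf fun c hc => by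
      have := congrArg Subtype.val (DFunLike.congr_fun (show φ c = 1 from hc) ⟨x, xM⟩)
      exact mul_inv_eq_iff_eq_mul.1 this)).trans_lt e'
    have a2 : Nat.card (H ⧸ φ.ker) < 60 := by
      have := Nat.le_of_dvd Nat.card_pos (card_dvd_of_injective _ (QuotientGroup.kerLift_injective φ))
      rw [IsCyclic.card_mulAut, e, Nat.totient_prime hp] at this
      omega
    have := solv_of_lt a1
    have := solv_of_lt a2
    exact hn (Core.isSolvable_of_normal_of_quotient φ.ker)
  have ho : ∀ y, orderOf (f y) = orderOf y := orderOf_injective f hf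
  have k1 : ∀ j, ¬ p ^ (j + 1) ∣ 20160 → k ≤ j := fun j e => by
    by_contra c; exact e ((pow_dvd_pow p (by omega)).trans (hk ▸ hM))
  rcases cent8 (f x) hp p2 ((ho x).trans hx) with ⟨rfl, e⟩ | ⟨rfl, e⟩ | ⟨rfl, e⟩
  · exact (c57 (by rw [hk, show k = 1 by have := k1 1 (by norm_num); omega, pow_one]) le_rfl (by omega)).elim
  · exact (c57 (by rw [hk, show k = 1 by have := k1 1 (by norm_num); omega, pow_one]) (by norm_num) (by omega)).elim
  obtain ⟨r, hr, hr'⟩ : ∃ r, (r = 5 ∨ r = 7) ∧ r ∣ Nat.card H := by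
    by_cases e : 5 ∣ Nat.card H
    exacts [⟨5, .inl rfl, e⟩, ⟨7, .inr rfl, seven_dvd hn hd e⟩]
  have rp : r.Prime := by rcases hr with rfl | rfl <;> norm_num
  have := Fact.mk rp
  obtain ⟨y, hy⟩ := exists_prime_orderOf_dvd_card' r hr'
  have c1 := cardfix rp (MulAut.conj y) (by rw [← map_pow, ← hy, pow_orderOf_eq_one, map_one]) (pCore 3 H)
    fun w hw => (inferInstance : (pCore 3 H).Normal).conj_mem w hw y
  have c2 := cdvd f hf (C := pCore 3 H ⊓ ((MulAut.conj y : MulAut H) : H →* H).eqLocus (MonoidHom.id H)) (x := y)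
    fun c hc => (mul_inv_eq_iff_eq_mul.1 hc.2).symm
  have c3 := card_dvd_of_le (inf_le_left : pCore 3 H ⊓ ((MulAut.conj y : MulAut H) : H →* H).eqLocus (MonoidHom.id H) ≤ _)
  have m3 : Nat.card (pCore 3 H) = 3 := by
    have : k = 1 ∨ k = 2 := by have := k1 2 (by norm_num); omega
    rcases this with rfl | rfl
    · exact hk
    exfalso
    rw [hk] at c1 c3
    generalize Nat.card ↥(pCore 3 H ⊓ ((MulAut.conj y : MulAut H) : H →* H).eqLocus (MonoidHom.id H)) = c at *
    have := Nat.le_of_dvd (by norm_num) c3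
    unfold Nat.ModEq at c1
    rcases cent8 (f y) rp (by omega) ((ho y).trans hy) with ⟨rfl, e⟩ | ⟨rfl, e⟩ | ⟨rfl, e⟩
    · rw [e] at c2; interval_cases c <;> omega
    · rw [e] at c2; interval_cases c <;> omega
    · omega
  refine ⟨m3, ?_⟩
  have x3 : (f x).IsThreeCycle := e.resolve_right fun e => c57 m3 (by norm_num) (by omega)
  have key : ∀ (h : H) a, f x (f h a) = f h a ↔ f x a = a := fun h a => by
    obtain ⟨i, hi⟩ : h⁻¹ * x * h⁻¹⁻¹ ∈ zpowers x := hz m3 ▸ (inferInstance : (pCore 3 H).Normal).conj_mem x xM h⁻¹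
    obtain ⟨j, hj⟩ : h * x * h⁻¹ ∈ zpowers x := hz m3 ▸ (inferInstance : (pCore 3 H).Normal).conj_mem x xM h
    refine ⟨fun e => (f h).injective ?_, fun e => ?_⟩
    · have := zpow_apply_eq_self_of_apply_eq_self e j
      rw [← map_zpow, show x ^ j = _ from hj] at this
      simpa using this
    · have := zpow_apply_eq_self_of_apply_eq_self e i
      rw [← map_zpow, show x ^ i = _ from hi] at this
      simpa [← Perm.eq_inv_iff_eq, Perm.inv_eq_iff_eq] using this
  let φ : H →* Perm {a // f x a = a} := MonoidHom.mk' (fun h => (f h).subtypePerm (key h)) fun a b =>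
    Equiv.ext fun c => Subtype.ext (DFunLike.congr_fun (f.map_mul a b) c.1)
  have hφ : φ.ker = pCore 3 H := by
    rw [← hz m3]
    refine le_antisymm (fun h hh => ?_) (zpowers_le.2 (Equiv.ext fun a => Subtype.ext a.2))
    have a1 : ∀ a, f x a = a → f h a = a := fun a e => by
      have := DFunLike.congr_fun (show φ h = 1 from hh) ⟨a, e⟩
      exact congrArg Subtype.val this
    obtain ⟨a, ha, -⟩ := x3.isCycle
    obtain ⟨i, hi⟩ := x3.isCycle.exists_pow_eq ha (mt (key h a).1 ha)
    have a2 : (f ((x ^ i)⁻¹ * h)).support ⊆ (f x).support.erase a := fun b hb => by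
      rw [mem_support] at hb
      refine Finset.mem_erase.2 ⟨by rintro rfl; exact hb (by simp [← hi]), mem_support.2 fun e => hb ?_⟩
      rw [map_mul, map_inv, map_pow, mul_apply, a1 b e, Perm.inv_eq_iff_eq, pow_apply_eq_self_of_apply_eq_self e]
    have a3 := Finset.card_le_card a2
    rw [Finset.card_erase_of_mem (mem_support.2 ha), x3.card_support] at a3
    have a4 : f ((x ^ i)⁻¹ * h) = 1 := card_support_le_one.1 (by
      by_contra c
      have := (card_support_eq_two.1 (show (f ((x ^ i)⁻¹ * h)).support.card = 2 by omega)).sign_eq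
      rw [ev] at this; exact absurd this (by decide))
    rw [← inv_mul_eq_one.1 (hf (a4.trans f.map_one.symm))]
    exact npow_mem_zpowers x i
  have hX : Fintype.card {a // f x a = a} = 5 := by
    have := Finset.card_compl (f x).support
    rw [x3.card_support] at this
    rw [Fintype.card_subtype, show (Finset.univ.filter fun a => f x a = a) = (f x).supportᶜ by ext; simp, this]; rfl
  have := (Core.isPGroup_pCore 3 H).isNilpotent
  exact a5s5 (fun _ => hn (Core.isSolvable_of_normal_of_quotient (pCore 3 H)))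
    ((Fintype.equivFinOfCardEq hX).permCongrHom.toMonoidHom.comp ((QuotientGroup.kerLift φ).comp
      (QuotientGroup.quotientMulEquivOfEq hφ.symm).toMonoidHom))
    ((Fintype.equivFinOfCardEq hX).permCongrHom.injective.comp ((QuotientGroup.kerLift_injective φ).comp
      (QuotientGroup.quotientMulEquivOfEq hφ.symm).injective))

end Cfsg.Lib.GH4
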