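import Cfsg.Agent.Lib.GH4.A

/-!
# Transvections on an elementary abelian group of order `16`
-/

set_option autoImplicit false
set_option linter.unusedSectionVars false

namespace Cfsg.Lib.GH4

open Subgroup

variable {V : Type*} [CommGroup V] [Finite V]

/-- Fixed points. -/
def Fx (σ : MulAut V) : Subgroup V := (σ : V →* V).eqLocus (MonoidHom.id V)

theorem mem_Fx {σ : MulAut V} {v : V} : v ∈ Fx σ ↔ σ v = v := Iff.rfl

theorem cf {p : ℕ} (hp : p.Prime) {σ : MulAut V} (h : σ ^ p = 1) {W : Subgroup V} (hW : ∀ w ∈ W, σ w ∈ W) :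
    Nat.card W % p = Nat.card ↥(W ⊓ Fx σ) % p := cardfix hp σ h W hW

theorem card_Fx {p : ℕ} (hp : p.Prime) {σ : MulAut V} (h : σ ^ p = 1) (h1 : σ ≠ 1) :
    Nat.card V % p = Nat.card (Fx σ) % p ∧ Nat.card (Fx σ) ∣ Nat.card V ∧ Nat.card (Fx σ) ≠ Nat.card V := by
  have := cf hp h (W := ⊤) fun _ _ => trivial
  rw [top_inf_eq, card_top] at this
  exact ⟨this, card_subgroup_dvd_card _, fun e => h1 (MulEquiv.ext fun v => mem_Fx.1 (eq_top_of_card_eq _ e ▸ mem_top v))⟩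

theorem Fx_conj (γ σ : MulAut V) : Nat.card (Fx (γ * σ * γ⁻¹)) = Nat.card (Fx σ) :=
  (Nat.card_congr (γ.toEquiv.subtypeEquiv fun v => by simp [mem_Fx])).symm

/-- A transvection with its centre. -/
structure Tv (τ : MulAut V) (z : V) : Prop where
  ne : z ≠ 1
  alt : ∀ v, τ v = v ∨ τ v = v * z
  ex : ∃ v, τ v ≠ v

theorem Tv.uniq {τ : MulAut V} {z w : V} (h : Tv τ z) (h' : Tv τ w) : z = w := by
  obtain ⟨v, hv⟩ := h.ex
  exact mul_left_cancel (((h.alt v).resolve_left hv).symm.trans ((h'.alt v).resolve_left hv))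

theorem Tv.conj {τ : MulAut V} {z : V} (h : Tv τ z) (γ : MulAut V) : Tv (γ * τ * γ⁻¹) (γ z) where
  ne := by simpa using h.ne
  alt v := by
    obtain ⟨v, rfl⟩ := γ.surjective v
    simpa [← map_mul] using h.alt v
  ex := by
    obtain ⟨v, hv⟩ := h.ex
    exact ⟨γ v, by simpa using hv⟩

theorem Tv.fix {τ γ : MulAut V} {z : V} (h : Tv τ z) (hc : γ * τ = τ * γ) : γ z = z :=
  (h.conj γ).uniq (by rwa [hc, mul_inv_cancel_right])

/-- Two transvections with different centres and axes. -/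
structure Pr (σ τ : MulAut V) (z w : V) : Prop where
  h1 : Tv σ z
  h2 : Tv τ w
  ne : z ≠ w
  fx : ∀ v, σ v = v → τ v = v → v = 1 ∨ v = z ∨ v = w ∨ v = z * w
  ex : ∃ x, σ x = x ∧ τ x ≠ x
  ex' : ∃ x, τ x = x ∧ σ x ≠ x

theorem Pr.conj {σ τ : MulAut V} {z w : V} (h : Pr σ τ z w) (γ : MulAut V) : Pr (γ * σ * γ⁻¹) (γ * τ * γ⁻¹) (γ z) (γ w) where
  h1 := h.h1.conj γ
  h2 := h.h2.conj γ
  ne := by simpa using h.ne
  fx v := by
    obtain ⟨v, rfl⟩ := γ.surjective v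
    simpa [← map_mul] using h.fx v
  ex := by
    obtain ⟨v, hv⟩ := h.ex
    exact ⟨γ v, by simpa using hv⟩
  ex' := by
    obtain ⟨v, hv⟩ := h.ex'
    exact ⟨γ v, by simpa using hv⟩

theorem Pr.two {σ τ κ : MulAut V} {z w v : V} (h : Pr σ τ z w) (c1 : κ * σ = σ * κ) (c2 : κ * τ = τ * κ) (h1 : σ v = v)
    (h2 : τ v = v) : κ v = v := by
  rcases h.fx v h1 h2 with rfl | rfl | rfl | rfl
  exacts [map_one κ, h.h1.fix c1, h.h2.fix c2, by rw [map_mul, h.h1.fix c1, h.h2.fix c2]]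

variable (h2 : ∀ v : V, v * v = 1)
include h2

theorem Pr.mul {σ τ : MulAut V} {z w v : V} (h : Pr σ τ z w) (c : σ * τ = τ * σ) (hv : σ (τ v) = v) : σ v = v ∧ τ v = v := by
  rcases h.h2.alt v with e | e
  · exact ⟨by rwa [e] at hv, e⟩
  rw [e, map_mul, h.h2.fix c] at hv
  rcases h.h1.alt v with e' | e' <;> rw [e'] at hv
  · exact absurd (mul_eq_left.1 hv) h.h2.ne
  · rw [mul_assoc, mul_eq_left] at hv
    exact absurd (by rw [← mul_one z, ← h2 w, ← mul_assoc, hv, one_mul]) h.ne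

theorem cover {τ1 τ2 τ3 : MulAut V} {z1 z2 z3 : V} (p13 : Pr τ1 τ3 z1 z3) (p21 : Pr τ2 τ1 z2 z1) (p32 : Pr τ3 τ2 z3 z2)
    (c12 : τ1 * τ2 = τ2 * τ1) (c13 : τ1 * τ3 = τ3 * τ1) (c23 : τ2 * τ3 = τ3 * τ2) (v : V) : τ1 v = v ∨ τ2 v = v ∨ τ3 v = v := by
  by_contra! e
  obtain ⟨x, x1, x3⟩ := p13.ex
  obtain ⟨y, y3, y1⟩ := p13.ex'
  have sq : ∀ a b c d : V, a * d * b * (c * d) = a * b * c := fun a b c d => by
    rw [show a * d * b * (c * d) = a * b * c * (d * d) by ac_rfl, h2, mul_one]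
  have a := p13.two (v := v * x * y) c12.symm c23
    (by rw [map_mul, map_mul, (p13.h1.alt v).resolve_left e.1, x1, (p13.h1.alt y).resolve_left y1, sq])
    (by rw [mul_right_comm, map_mul, map_mul, (p13.h2.alt v).resolve_left e.2.2, y3, (p13.h2.alt x).resolve_left x3, sq])
  rw [map_mul, map_mul, (p21.h1.alt v).resolve_left e.2.1, (p21.h1.alt x).resolve_left fun e => x3 (p21.two c23.symm c13.symm e x1),
    (p21.h1.alt y).resolve_left fun e => y1 (p32.two c13 c12 y3 e),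
    show v * z2 * (x * z2) * (y * z2) = v * x * y * z2 * (z2 * z2) by ac_rfl, h2, mul_one, mul_eq_left] at a
  exact p21.h1.ne a

theorem gen9 {A B : MulAut V} (a3 : A ^ 3 = 1) (b3 : B ^ 3 = 1) (c : A * B = B * A) (F : Subgroup V) (h1 : Fx A ≤ F)
    (h3 : Fx B ≤ F) (h4 : Fx (A * B) ≤ F) (h5 : Fx (A * B * B) ≤ F) : F = ⊤ := by
  have n : ∀ C : MulAut V, (∀ v, C (C (C v)) = v) → ∀ v, v * C v * C (C v) ∈ Fx C := fun C hC v => by
    rw [mem_Fx, map_mul, map_mul, hC]; ac_rfl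
  have a : ∀ v, A (A (A v)) = v := fun v => by simpa [pow_succ] using DFunLike.congr_fun a3 v
  have b : ∀ v, B (B (B v)) = v := fun v => by simpa [pow_succ] using DFunLike.congr_fun b3 v
  have d : ∀ v, B (A v) = A (B v) := fun v => (DFunLike.congr_fun c v).symm
  refine (eq_top_iff' F).2 fun v => ?_
  have := mul_mem (mul_mem (mul_mem (mul_mem (h1 (n A a v)) (h3 (n B b v))) (h4 (n _ (by simp [a, b, d]) v)))
    (h5 (n _ (by simp [a, b, d]) v))) (h1 (n A a (v * B v * B (B v))))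
  simp only [MulAut.mul_apply, map_mul, d, b] at this
  generalize A (A (B (B v))) = x6 at this
  generalize A (B (B v)) = x5, A (A (B v)) = x4 at this
  generalize A (B v) = x3, A (A v) = x2, B (B v) = x8 at this
  generalize A v = x1, B v = x7 at this
  convert this using 1
  rw [show v * x1 * x2 * (v * x7 * x8) * (v * x3 * x6) * (v * x5 * x4) * (v * x7 * x8 * (x1 * x3 * x5) * (x2 * x4 * x6)) =
    v * (v * v) * (v * v) * (x1 * x1) * (x2 * x2) * (x3 * x3) * (x4 * x4) * (x5 * x5) * (x6 * x6) * (x7 * x7) * (x8 * x8) by ac_rfl]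
  simp [h2]

theorem half (hV : Nat.card V = 16) {A B τ : MulAut V} (b3 : B ^ 3 = 1) (c : A * B = B * A) (t2 : τ ^ 2 = 1)
    (cb : τ * B = B * τ) (ca : A * τ * A = τ) (nA : Nat.card (Fx A) = 4) (nB : Nat.card (Fx B) = 4) (hd : Fx A ⊓ Fx B = ⊥)
    (t1 : τ ≠ 1) : ∃ z, B z = z ∧ Tv τ z ∧ (∀ v, A v = v → τ v = v) ∧ (∀ v, B v = v → τ v = v → v = 1 ∨ v = z) ∧
      ∀ v, ∃ x y, A x = x ∧ B y = y ∧ v = x * y := by
  have tt : ∀ v, τ (τ v) = v := fun v => by simpa [pow_succ] using DFunLike.congr_fun t2 v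
  have d : ∀ v, τ (B v) = B (τ v) := fun v => DFunLike.congr_fun cb v
  have a1 := cf Nat.prime_two t2 (W := Fx A) fun w hw => by
    have := DFunLike.congr_fun ca w
    simp only [MulAut.mul_apply] at this
    rwa [mem_Fx.1 hw] at this
  have a2 := cf Nat.prime_three b3 (W := Fx A ⊓ Fx τ) fun w hw =>
    ⟨(DFunLike.congr_fun c w).trans (congrArg B hw.1), (d w).trans (congrArg B hw.2)⟩
  rw [inf_right_comm, hd, bot_inf_eq, card_bot] at a2
  have a3 : ∀ v, A v = v → τ v = v := fun v hv => by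
    have a3 := card_le_of_le (inf_le_left : Fx A ⊓ Fx τ ≤ _)
    exact (eq_of_le_of_card_ge (inf_le_left : Fx A ⊓ Fx τ ≤ _) (by omega)).ge hv |>.2
  have a4 : ∀ v, ∃ x y, A x = x ∧ B y = y ∧ v = x * y := fun v => by
    obtain ⟨⟨x, y⟩, e⟩ := (isComplement'_of_card_mul_and_disjoint (by rw [nA, nB, hV]) (disjoint_iff.2 hd)).2 v
    exact ⟨x, y, x.2, y.2, e.symm⟩
  have a5 := cf Nat.prime_two t2 (W := Fx B) fun w hw => (d w).symm.trans (congrArg τ hw)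
  have a6 := card_dvd_of_le (inf_le_left : Fx B ⊓ Fx τ ≤ _)
  have a7 : Nat.card ↥(Fx B ⊓ Fx τ) ≠ 4 := fun e => t1 (MulEquiv.ext fun v => by
    obtain ⟨x, y, hx, hy, rfl⟩ := a4 v
    rw [map_mul, a3 x hx, mem_Fx.1 ((eq_of_le_of_card_ge (inf_le_left : Fx B ⊓ Fx τ ≤ _) (by omega)).ge hy).2]; rfl)
  have a8 : Nat.card ↥(Fx B ⊓ Fx τ) = 2 := by
    rw [nB] at a5 a6
    have := Nat.le_of_dvd (by norm_num) a6
    generalize Nat.card ↥(Fx B ⊓ Fx τ) = m at *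
    interval_cases m <;> omega
  obtain ⟨⟨z, hz⟩, z1, hu⟩ := (Nat.card_eq_two_iff' (1 : ↥(Fx B ⊓ Fx τ))).1 a8
  have a9 : ∀ v, B v = v → τ v = v → v = 1 ∨ v = z := fun v h h' => or_iff_not_imp_left.2 fun e =>
    congrArg Subtype.val (hu ⟨v, h, h'⟩ fun c => e (congrArg Subtype.val c))
  refine ⟨z, hz.1, ⟨fun e => z1 (Subtype.ext e), fun v => ?_, ?_⟩, a3, a9, a4⟩
  · obtain ⟨x, y, hx, hy, rfl⟩ := a4 v
    have e : τ y = y * (τ y * y) := by rw [mul_left_comm, h2, mul_one]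
    rw [map_mul, a3 x hx, e]
    rcases a9 (τ y * y) (by rw [map_mul, ← d, hy]) (by rw [map_mul, tt, mul_comm]) with e | e <;> rw [e]
    exacts [.inl (by rw [mul_one]), .inr (mul_assoc _ _ _).symm]
  · by_contra! e
    exact t1 (MulEquiv.ext e)

theorem pair (hV : Nat.card V = 16) {A B σ τ : MulAut V} (a3 : A ^ 3 = 1) (b3 : B ^ 3 = 1) (c : A * B = B * A) (s2 : σ ^ 2 = 1)
    (t2 : τ ^ 2 = 1) (sb : σ * B = B * σ) (sa : A * σ * A = σ) (ta : τ * A = A * τ) (tb : B * τ * B = τ) (s1 : σ ≠ 1) (t1 : τ ≠ 1)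
    (nA : Nat.card (Fx A) = 4) (nB : Nat.card (Fx B) = 4) (n1 : A * B ≠ 1) (n2 : A * B * B ≠ 1) :
    ∃ z w, Pr σ τ z w ∧ B z = z ∧ ∀ v, B v = v → σ v = v → v = 1 ∨ v = z := by
  have hd : Fx A ⊓ Fx B = ⊥ := by
    by_contra hd
    have a1 := cf Nat.prime_three b3 (W := Fx A) fun w hw => (DFunLike.congr_fun c w).trans (congrArg B hw)
    have a2 := card_le_of_le (inf_le_left : Fx A ⊓ Fx B ≤ _)
    have a3' := (one_lt_card_iff_ne_bot _).2 hd
    have a4 : Nat.card ↥(Fx A ⊓ Fx B) = 4 := by omega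
    have l : ∀ C : MulAut V, C ^ 3 = 1 → C ≠ 1 → Fx A ⊓ Fx B ≤ Fx C → Fx C ≤ Fx A ⊓ Fx B := fun C h h' e => by
      obtain ⟨b1, b2, b3⟩ := card_Fx Nat.prime_three h h'
      rw [hV] at b1 b2 b3
      refine (eq_of_le_of_card_ge e ?_).ge
      have := Nat.le_of_dvd (by norm_num) b2
      generalize Nat.card (Fx C) = m at *
      interval_cases m <;> omega
    have cc : Commute A B := c
    have := gen9 h2 a3 b3 c _ (eq_of_le_of_card_ge inf_le_left (by omega)).ge (eq_of_le_of_card_ge inf_le_right (by omega)).ge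
      (l _ (by rw [cc.mul_pow, a3, b3, mul_one]) n1 fun v hv => by rw [mem_Fx, MulAut.mul_apply, mem_Fx.1 hv.2, mem_Fx.1 hv.1])
      (l _ (by rw [(cc.mul_left (Commute.refl B)).mul_pow, cc.mul_pow, a3, b3, mul_one, mul_one]) n2 fun v hv => by
        rw [mem_Fx, MulAut.mul_apply, MulAut.mul_apply, mem_Fx.1 hv.2, mem_Fx.1 hv.2, mem_Fx.1 hv.1])
    rw [this, card_top] at a4
    omega
  obtain ⟨z, z1, z2, z3, z4, z5⟩ := half h2 hV b3 c s2 sb sa nA nB hd s1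
  obtain ⟨w, w1, w2, w3, w4, -⟩ := half h2 hV a3 c.symm t2 ta tb nB nA (inf_comm (Fx A) _ ▸ hd) t1
  refine ⟨z, w, ⟨z2, w2, fun e => z2.ne (mem_bot.1 (hd ▸ ⟨e ▸ w1, z1⟩)), fun v e e' => ?_, ?_, ?_⟩, z1, z4⟩
  · obtain ⟨x, y, hx, hy, rfl⟩ := z5 v
    rw [map_mul, z3 x hx, mul_right_inj] at e
    rw [map_mul, w3 y hy, mul_left_inj] at e'
    rcases z4 y hy e with rfl | rfl <;> rcases w4 x hx e' with rfl | rfl <;> simp [mul_comm]
  · by_contra! e
    obtain ⟨v, hv⟩ := w2.ex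
    obtain ⟨x, y, hx, hy, rfl⟩ := z5 v
    exact hv (by rw [map_mul, e x (z3 x hx), w3 y hy])
  · by_contra! e
    obtain ⟨v, hv⟩ := z2.ex
    obtain ⟨x, y, hx, hy, rfl⟩ := z5 v
    exact hv (by rw [map_mul, z3 x hx, e y (w3 y hy)])

end Cfsg.Lib.GH4
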