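import Cfsg.Agent.Lib.GH4.B
import Cfsg.Agent.Lib.SRank.Basic
import Cfsg.Agent.Lib.Known2.TCSym
import Cfsg.Agent.S3103

/-!
# An extension of `E₁₆` by `S₆` has sectional rank at least five
-/

set_option autoImplicit false
set_option linter.unusedSectionVars false
set_option Elab.async false
set_option maxRecDepth 10000

namespace Cfsg.Lib.GH4

open Subgroup Equiv Cfsg.Lib.SRank
open scoped commutatorElement

theorem inj6 {G : Type*} [Group G] (φ : Perm (Fin 6) →* G) (h : φ (swap 0 1) * φ (swap 1 2) ≠ 1) : Function.Injective φ := by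
  rw [← φ.ker_eq_bot_iff]
  by_contra e
  exact h ((φ.map_mul _ _).symm.trans (Perm.alternatingGroup_le_of_normal (by simp) ((nontrivial_iff_ne_bot _).2 e)
    (by decide : Perm.sign (swap (0 : Fin 6) 1 * swap 1 2) = 1)))

theorem sr_of_sec {G : Type*} [Group G] [Finite G] {k : ℕ} (h : SectionalPRankLE 2 k G) : SR (2 ^ k) (⊤ : Subgroup G) := by
  intro H _ K hK
  have : (K.subgroupOf H).Normal := ⟨fun n hn g => by
    have := mul_mem (comm_mem hK g.2 n.2) (show (n : G) ∈ K from hn)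
    rwa [inv_mul_cancel_right] at this⟩
  have := h H (K.subgroupOf H) ⊤ ⟨⟨fun a b => Subtype.ext (by
    obtain ⟨a, ha⟩ := QuotientGroup.mk_surjective a.1
    obtain ⟨b, hb⟩ := QuotientGroup.mk_surjective b.1
    rw [coe_mul, coe_mul, ← ha, ← hb, ← QuotientGroup.mk_mul, ← QuotientGroup.mk_mul, QuotientGroup.eq]
    have := comm_mem hK (inv_mem b.2) (inv_mem a.2)
    simpa [mem_subgroupOf, mul_assoc] using this)⟩⟩ fun a _ => by
    obtain ⟨a, rfl⟩ := QuotientGroup.mk_surjective a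
    rw [← QuotientGroup.mk_pow, QuotientGroup.eq_one_iff, sq]
    exact hK a a.2
  rwa [card_top] at this

theorem sr_surj {G G' : Type*} [Group G] [Group G'] {k : ℕ} (h : SR k (⊤ : Subgroup G)) (f : G →* G')
    (hf : Function.Surjective f) : SR k (⊤ : Subgroup G') := fun H _ K hK => by
  have := h (H.comap f) le_top (K.comap f) fun x hx => by rw [mem_comap, map_mul]; exact hK _ hx
  rwa [relIndex_comap, map_comap_eq_self_of_surjective hf] at this

variable {Y : Type*} [Group Y] [Finite Y] (W : Subgroup Y) [W.Normal]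

/-- The action of the quotient on a self-centralizing abelian normal subgroup. -/
theorem exists_act (hW : IsElementaryAbelian 2 W) (hC : centralizer (W : Set Y) ≤ W) :
    ∃ ρ : Y ⧸ W →* MulAut W, Function.Injective ρ ∧ ∀ (y : Y) (w : W), (ρ y w : Y) = y * w * y⁻¹ := by
  have hk : (MulAut.conjNormal : Y →* MulAut W).ker = W := le_antisymm
    (fun y hy => hC fun w hw => (mul_inv_eq_iff_eq_mul.1 (congrArg Subtype.val (DFunLike.congr_fun
      (show MulAut.conjNormal y = 1 from hy) ⟨w, hw⟩))).symm)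
    fun y hy => MulEquiv.ext fun w => Subtype.ext (mul_inv_eq_iff_eq_mul.2 (Invol.commute_of_mulComm hW.1 hy w.2))
  refine ⟨QuotientGroup.lift W MulAut.conjNormal hk.ge, (injective_iff_map_eq_one _).2 fun q hq => ?_, fun _ _ => rfl⟩
  obtain ⟨y, rfl⟩ := QuotientGroup.mk_surjective q
  exact (QuotientGroup.eq_one_iff y).2 (hk.le hq)

theorem card16 {V : Type*} [CommGroup V] [Finite V] (h : Nat.card V ∣ 16) {σ : MulAut V} (h5 : σ ^ 5 = 1) (h1 : σ ≠ 1) :
    Nat.card V = 16 ∧ Fx σ = ⊥ := by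
  obtain ⟨a, b, c⟩ := card_Fx Nat.prime_five h5 h1
  rw [← card_eq_one]
  exact (by decide : ∀ n < 17, ∀ m < 17, n ∣ 16 ∧ n % 5 = m % 5 ∧ m ∣ n ∧ m ≠ n → n = 16 ∧ m = 1) _
    (Nat.lt_succ_of_le (Nat.le_of_dvd (by norm_num) h)) _ (Nat.lt_succ_of_le (Nat.le_of_dvd (by norm_num) (b.trans h))) ⟨h, a, b, c⟩

theorem card4 {V : Type*} [CommGroup V] [Finite V] (h : Nat.card V = 16) {σ : MulAut V} (h3 : σ ^ 3 = 1) (h1 : σ ≠ 1)
    (h0 : Fx σ ≠ ⊥) : Nat.card (Fx σ) = 4 := by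
  obtain ⟨a, b, c⟩ := card_Fx Nat.prime_three h3 h1
  rw [h] at a b c
  exact (by decide : ∀ m < 17, 16 % 3 = m % 3 ∧ m ∣ 16 ∧ m ≠ 16 ∧ m ≠ 1 → m = 4) _
    (Nat.lt_succ_of_le (Nat.le_of_dvd (by norm_num) b)) ⟨a, b, c, fun e => h0 (card_eq_one.1 e)⟩

theorem dvd16 (hS : SR 16 (⊤ : Subgroup Y)) (hW : IsElementaryAbelian 2 W) : Nat.card W ∣ 16 := by
  have h := hS W le_top ⊥ fun h hh => by rw [← sq]; exact hW.2 h hh
  rw [relIndex_bot_left] at h
  have := Invol.fact_two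
  obtain ⟨n, hn⟩ := IsPGroup.iff_card.1 (show IsPGroup 2 W from fun g => ⟨1, Subtype.ext (hW.2 g g.2)⟩)
  rw [hn] at h ⊢
  exact pow_dvd_pow 2 ((Nat.pow_le_pow_iff_right one_lt_two).1 (show 2 ^ n ≤ 2 ^ 4 from h))

/-- The elements of an elementary abelian subgroup of order `8` of `S₆`. -/
def S8 : Finset (Perm (Fin 6)) := {1, swap 0 1, swap 2 3, swap 4 5, swap 0 1 * swap 4 5, swap 2 3 * swap 0 1, swap 4 5 * swap 2 3,
  swap 0 1 * (swap 2 3 * swap 4 5)}

/-- An elementary abelian subgroup of order `8` of `S₆`. -/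
def U : Subgroup (Perm (Fin 6)) where
  carrier := S8
  mul_mem' {a b} ha hb := (by decide +kernel : ∀ a ∈ S8, ∀ b ∈ S8, a * b ∈ S8) a ha b hb
  one_mem' := (by decide +kernel : 1 ∈ S8)
  inv_mem' {a} ha := (by decide +kernel : ∀ a ∈ S8, a⁻¹ ∈ S8) a ha

theorem hU : Nat.card U = 8 := (Nat.card_eq_finsetCard S8).trans (by decide +kernel)

theorem coreA (hS : SR 16 (⊤ : Subgroup Y)) (hW : IsElementaryAbelian 2 W) (ρ : Y ⧸ W →* MulAut W)
    (hρ : ∀ (y : Y) (w : W), (ρ y w : Y) = y * w * y⁻¹) (ψ : Perm (Fin 6) →* Y ⧸ W) (hi : Function.Injective (ρ.comp ψ))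
    (hA : ∃ v, v ≠ 1 ∧ ρ (ψ (swap 0 1 * swap 1 2)) v = v) : False := by
  let _ : CommGroup W := { (inferInstance : Group W) with mul_comm := fun a b => hW.1.is_comm.comm a b }
  have h2 : ∀ v : W, v * v = 1 := fun v => Subtype.ext (by rw [← sq]; exact hW.2 v v.2)
  set χ := ρ.comp ψ with hχ
  have n1 : ∀ g, g ≠ 1 → χ g ≠ 1 := fun g h e => h (hi (e.trans χ.map_one.symm))
  have pw : ∀ g n, g ^ n = 1 → χ g ^ n = 1 := fun g n h => by rw [← map_pow, h, map_one]
  have cm : ∀ g h, g * h = h * g → χ g * χ h = χ h * χ g := fun g h e => by rw [← map_mul, e, map_mul]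
  have cj : ∀ g h k, g * h * g⁻¹ = k → χ g * χ h * (χ g)⁻¹ = χ k := fun g h k e => by rw [← e, map_mul, map_mul, map_inv]
  have hV := (card16 (dvd16 W hS hW) (pw (finRotate 6 * swap 0 1) 5 (by decide)) (n1 _ (by decide))).1
  have nA : Nat.card (Fx (χ (swap 0 1 * swap 1 2))) = 4 := card4 hV (pw _ 3 (by decide)) (n1 _ (by decide)) fun e => by
    obtain ⟨v, h1, h⟩ := hA
    exact h1 (mem_bot.1 (e ▸ h))
  have nB : Nat.card (Fx (χ (swap 3 4 * swap 4 5))) = 4 := by
    rw [← cj (swap 0 3 * swap 1 4 * swap 2 5) (swap 0 1 * swap 1 2) _ (by decide), Fx_conj, nA]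
  obtain ⟨z1, z3, p13, r1, r2⟩ := pair h2 hV (A := χ (swap 0 1 * swap 1 2)) (B := χ (swap 3 4 * swap 4 5)) (σ := χ (swap 0 1))
    (τ := χ (swap 4 5)) (pw _ 3 (by decide)) (pw _ 3 (by decide)) (cm _ _ (by decide)) (pw _ 2 (by decide)) (pw _ 2 (by decide))
    (cm _ _ (by decide)) (by rw [← map_mul, ← map_mul]; exact congrArg χ (by decide)) (cm _ _ (by decide))
    (by rw [← map_mul, ← map_mul]; exact congrArg χ (by decide)) (n1 _ (by decide)) (n1 _ (by decide)) nA nB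
    (by rw [← map_mul]; exact n1 _ (by decide)) (by rw [← map_mul, ← map_mul]; exact n1 _ (by decide))
  let g : Perm (Fin 6) := swap 0 2 * swap 2 4 * (swap 1 3 * swap 3 5)
  have g1 := cj g (swap 0 1) (swap 2 3) (by decide)
  have g2 := cj g (swap 2 3) (swap 4 5) (by decide)
  have g3 := cj g (swap 4 5) (swap 0 1) (by decide)
  have p21 := p13.conj (χ g)
  rw [g1, g3] at p21
  rw [p21.h2.uniq p13.h1] at p21
  have p32 := p21.conj (χ g)
  rw [g1, g2] at p32
  have e3 := p32.h1.uniq p13.h2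
  rw [e3] at p32
  have c12 := cm (swap 0 1) (swap 2 3) (by decide)
  have c13 := cm (swap 0 1) (swap 4 5) (by decide)
  have c23 := cm (swap 2 3) (swap 4 5) (by decide)
  let L : Subgroup W := Fx (χ (swap 0 1)) ⊓ Fx (χ (swap 4 5))
  have l21 : ∀ v, χ (swap 2 3) v = v → χ (swap 0 1) v = v → v ∈ L := fun v a b => ⟨b, p21.two c23.symm c13.symm a b⟩
  have l32 : ∀ v, χ (swap 4 5) v = v → χ (swap 2 3) v = v → v ∈ L := fun v a b => ⟨p32.two c13 c12 a b, a⟩
  have sq : ∀ u : Perm (Fin 6), u * u = 1 → ∀ y : Y, (y : Y ⧸ W) = ψ u → ∃ m : W, (m : Y) = y * y ∧ χ u m = m := fun u hu y hy => by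
    have : y * y ∈ W := (QuotientGroup.eq_one_iff _).1 (by rw [QuotientGroup.mk_mul, hy, ← map_mul, hu, map_one])
    exact ⟨⟨y * y, this⟩, rfl, Subtype.ext (by rw [hχ, MonoidHom.comp_apply, ← hy, hρ]; group)⟩
  have tr : ∀ (t c : Perm (Fin 6)) z, t * t = 1 → c ^ 3 = 1 → c * t * c⁻¹ = t → Tv (χ t) z → χ c z = z →
      ∀ y : Y, (y : Y ⧸ W) = ψ t → ∃ m : W, (m : Y) = y * y ∧ χ t m = m ∧ χ c m = m := fun t c z tt c3 ct hz cz y hy => by
    obtain ⟨m, e, hm⟩ := sq t tt y hy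
    refine ⟨m, e, hm, ?_⟩
    obtain ⟨d, hd⟩ := QuotientGroup.mk_surjective (ψ c)
    have hv : y⁻¹ * (d * y * d⁻¹) ∈ W := QuotientGroup.eq.1 (by
      rw [QuotientGroup.mk_mul, QuotientGroup.mk_mul, QuotientGroup.mk_inv, hy, hd, ← map_inv, ← map_mul, ← map_mul, ct])
    have a : χ c m = χ t ⟨_, hv⟩ * m * ⟨_, hv⟩ := Subtype.ext (by
      rw [coe_mul, coe_mul, hχ, MonoidHom.comp_apply, MonoidHom.comp_apply, ← hy, ← hd, hρ, hρ, e]; group)
    rcases hz.alt ⟨_, hv⟩ with b | b <;> rw [b] at a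
    · rw [a, mul_right_comm, h2, one_mul]
    · have a : χ c m = m * z := by rw [a, mul_comm _ z, mul_right_comm, mul_assoc z, h2, mul_one, mul_comm]
      have := DFunLike.congr_fun (pw c 3 c3) m
      simp only [pow_succ, pow_zero, one_mul, MulAut.mul_apply, a, map_mul, cz, MulAut.one_apply] at this
      rw [mul_assoc, h2, mul_one, mul_eq_left] at this
      exact absurd this hz.ne
  have rc : ∀ {B σ : MulAut W} {z} (γ : MulAut W), (B z = z ∧ ∀ v, B v = v → σ v = v → v = 1 ∨ v = z) →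
      (γ * B * γ⁻¹) (γ z) = γ z ∧ ∀ v, (γ * B * γ⁻¹) v = v → (γ * σ * γ⁻¹) v = v → v = 1 ∨ v = γ z := fun γ h =>
    ⟨by simpa using h.1, fun v => by obtain ⟨v, rfl⟩ := γ.surjective v; simpa using h.2 v⟩
  have r3 := rc (χ g) ⟨r1, r2⟩
  rw [g1, cj g _ _ rfl] at r3
  have r4 := rc (χ g) r3
  rw [g2, cj g _ _ rfl, e3] at r4
  have zL : ∀ {v z : W}, z ∈ L → v = 1 ∨ v = z → v ∈ L := fun h e => by rcases e with rfl | rfl; exacts [one_mem _, h]
  have key := hS ((U.map ψ).comap (QuotientGroup.mk' W)) le_top (L.map W.subtype) (by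
    rintro y ⟨u, hu, hy⟩
    suffices ∃ m : W, (m : Y) = y * y ∧ m ∈ L by obtain ⟨m, e, h⟩ := this; exact ⟨m, h, e⟩
    replace hy : (y : Y ⧸ W) = ψ u := hy.symm
    have hu : u ∈ S8 := hu
    simp only [S8, Finset.mem_insert, Finset.mem_singleton] at hu
    rcases hu with rfl | rfl | rfl | rfl | rfl | rfl | rfl | rfl
    · have : y ∈ W := (QuotientGroup.eq_one_iff _).1 (hy.trans ψ.map_one)
      exact ⟨1, (congrArg Subtype.val (h2 ⟨y, this⟩)).symm, one_mem _⟩
    · obtain ⟨m, e, a, b⟩ := tr _ _ _ (by decide) (by decide) (by decide) p13.h1 r1 y hy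
      exact ⟨m, e, zL ⟨p13.h1.fix rfl, p13.h1.fix c13.symm⟩ (r2 m b a)⟩
    · obtain ⟨m, e, a, b⟩ := tr _ _ _ (by decide) (by decide) (by decide) p21.h1 r3.1 y hy
      exact ⟨m, e, zL ⟨p21.h1.fix c12, p21.h1.fix c23.symm⟩ (r3.2 m b a)⟩
    · obtain ⟨m, e, a, b⟩ := tr _ _ _ (by decide) (by decide) (by decide) p13.h2 r4.1 y hy
      exact ⟨m, e, zL ⟨p13.h2.fix c13, p13.h2.fix rfl⟩ (r4.2 m b a)⟩
    · obtain ⟨m, e, a⟩ := sq _ (by decide) y hy
      rw [map_mul] at a
      exact ⟨m, e, p13.mul h2 c13 a⟩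
    · obtain ⟨m, e, a⟩ := sq _ (by decide) y hy
      rw [map_mul] at a
      exact ⟨m, e, l21 m (p21.mul h2 c12.symm a).1 (p21.mul h2 c12.symm a).2⟩
    · obtain ⟨m, e, a⟩ := sq _ (by decide) y hy
      rw [map_mul] at a
      exact ⟨m, e, l32 m (p32.mul h2 c23.symm a).1 (p32.mul h2 c23.symm a).2⟩
    · obtain ⟨m, e, a⟩ := sq _ (by decide) y hy
      refine ⟨m, e, ?_⟩
      rcases cover h2 p13 p21 p32 c12 c13 c23 m with b | b | b
      · rw [show swap (0 : Fin 6) 1 * (swap 2 3 * swap 4 5) = swap 4 5 * swap 2 3 * swap 0 1 by decide, map_mul, map_mul,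
          MulAut.mul_apply, b] at a
        exact l32 m (p32.mul h2 c23.symm a).1 (p32.mul h2 c23.symm a).2
      · rw [show swap (0 : Fin 6) 1 * (swap 2 3 * swap 4 5) = swap 0 1 * swap 4 5 * swap 2 3 by decide, map_mul, map_mul,
          MulAut.mul_apply, b] at a
        exact p13.mul h2 c13 a
      · rw [show swap (0 : Fin 6) 1 * (swap 2 3 * swap 4 5) = swap 2 3 * swap 0 1 * swap 4 5 by decide, map_mul, map_mul,
          MulAut.mul_apply, b] at a
        exact l21 m (p21.mul h2 c12.symm a).1 (p21.mul h2 c12.symm a).2)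
  have k1 := Hall.card_mul_relIndex (H := L.map W.subtype) (L := (U.map ψ).comap (QuotientGroup.mk' W))
    ((map_subtype_le L).trans fun w hw => by rw [mem_comap, QuotientGroup.mk'_apply, (QuotientGroup.eq_one_iff w).2 hw]; exact one_mem _)
  rw [Hall.card_comap_mk', card_map_of_injective (Function.Injective.of_comp hi), hU, hV, card_subtype] at k1
  have k2 : Nat.card L ≤ 4 := by
    classical
    refine (Nat.card_le_card_of_injective (β := ({1, z1, z3, z1 * z3} : Finset W))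
      (fun v => ⟨v.1, by simpa using p13.fx v v.2.1 v.2.2⟩) fun a b e => Subtype.ext (by have := congrArg Subtype.val e; exact this)).trans ?_
    rw [Nat.card_eq_fintype_card, Fintype.card_coe]
    exact Finset.card_le_four
  nlinarith

theorem core (hS : SR 16 (⊤ : Subgroup Y)) (hW : IsElementaryAbelian 2 W) (hC : centralizer (W : Set Y) ≤ W)
    (ψ : Perm (Fin 6) →* Y ⧸ W) (hψ : Function.Injective ψ) : False := by
  obtain ⟨ρ, hi, hρ⟩ := exists_act W hW hC
  have hj : Function.Injective (ρ.comp ψ) := hi.comp hψ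
  let _ : CommGroup W := { (inferInstance : Group W) with mul_comm := fun a b => hW.1.is_comm.comm a b }
  have h2 : ∀ v : W, v * v = 1 := fun v => Subtype.ext (by rw [← sq]; exact hW.2 v v.2)
  obtain ⟨σ, s1, s2, -⟩ := Known2.TC.exists_hom_perm6 (G := Perm (Fin 6)) (a := swap 0 1 * swap 2 3 * swap 4 5)
    (b := swap 0 2 * swap 1 4 * swap 3 5) (c := swap 0 1 * swap 2 5 * swap 3 4) (d := swap 0 2 * swap 1 3 * swap 4 5)
    (e := swap 0 1 * swap 2 4 * swap 3 5) (by decide) (by decide) (by decide) (by decide) (by decide) (by decide) (by decide)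
    (by decide) (by decide) (by decide) (by decide) (by decide) (by decide) (by decide) (by decide)
  have sj := inj6 σ (by rw [s1, s2]; decide)
  set χ := ρ.comp ψ with hχ
  have cj : ∀ h k, (∃ g, g * h * g⁻¹ = k) → Fx (χ h) = ⊥ → Fx (χ k) = ⊥ := fun h k ⟨g, e⟩ c => by
    rw [← card_eq_one, ← e, map_mul, map_mul, map_inv, Fx_conj, c, card_bot]
  have fa : Fx (χ (swap 0 1 * swap 1 2)) = ⊥ := by
    by_contra e
    obtain ⟨v, h⟩ := (ne_bot_iff_exists_ne_one).1 e
    exact coreA W hS hW ρ hρ ψ hj ⟨v, fun c => h (Subtype.ext c), v.2⟩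
  have fb : Fx (χ (swap 0 1 * swap 2 3 * swap 4 5 * (swap 0 2 * swap 1 4 * swap 3 5))) = ⊥ := by
    by_contra e
    obtain ⟨v, h⟩ := (ne_bot_iff_exists_ne_one).1 e
    refine coreA W hS hW ρ hρ (ψ.comp σ) (hj.comp sj) ⟨v, fun c => h (Subtype.ext c), ?_⟩
    rw [MonoidHom.comp_apply, map_mul σ, s1, s2]; exact v.2
  have pw : ∀ g n, g ^ n = 1 → χ g ^ n = 1 := fun g n h => by rw [← map_pow, h, map_one]
  have := gen9 h2 (pw (swap 0 1 * swap 1 2) 3 (by decide)) (pw (swap 3 4 * swap 4 5) 3 (by decide))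
    (by rw [← map_mul, ← map_mul]; exact congrArg χ (by decide)) ⊥ fa.le (cj _ _ (by decide +kernel) fa).le
    (by rw [← map_mul]; exact (cj _ _ (by decide +kernel) fb).le) (by rw [← map_mul, ← map_mul]; exact (cj _ _ (by decide +kernel) fb).le)
  exact (by decide : swap (0 : Fin 6) 1 ≠ 1) (hj (MulEquiv.ext fun v => by
    rw [mem_bot.1 (this.ge (mem_top v)), map_one, map_one]))

/-- The Frattini quotient of `O₂(X)` is self-centralizing. -/
theorem setup {X : Type*} [Group X] [Finite X] (hc : IsPConstrained 2 X) (hO : oddCore X = ⊥) :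
    ∃ (Φ : Subgroup X) (_ : Φ.Normal), Φ = (frattini (pCore 2 X)).map (pCore 2 X).subtype ∧ Φ ≤ pCore 2 X ∧
      IsElementaryAbelian 2 ((pCore 2 X).map (QuotientGroup.mk' Φ)) ∧
      centralizer ((pCore 2 X).map (QuotientGroup.mk' Φ) : Set (X ⧸ Φ)) ≤ (pCore 2 X).map (QuotientGroup.mk' Φ) := by
  have := Invol.fact_two
  have hF := Core.isPGroup_pCore 2 X
  have hC := (Core.isPConstrained_iff_of_pPrimeCore_eq_bot hO).1 hc
  have := Core.normal_frattiniOf (pCore 2 X)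
  refine ⟨_, this, rfl, map_subtype_le _, ?_⟩
  set π := QuotientGroup.mk' ((frattini (pCore 2 X)).map (pCore 2 X).subtype)
  have hk : ∀ a, π a = 1 ↔ a ∈ (frattini (pCore 2 X)).map (pCore 2 X).subtype := fun a => QuotientGroup.eq_one_iff a
  have hcm : ∀ a ∈ pCore 2 X, ∀ b ∈ pCore 2 X, Commute (π a) (π b) := fun a ha b hb =>
    commutatorElement_eq_one_iff_commute.1 (by
      rw [← map_commutatorElement, hk]; exact PGrp.commutator_le_map_frattini hF (commutator_mem_commutator ha hb))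
  refine ⟨⟨Invol.mulComm_of_forall (by rintro _ ⟨a, ha, rfl⟩ _ ⟨b, hb, rfl⟩; exact hcm a ha b hb), by
    rintro _ ⟨a, ha, rfl⟩; rw [← map_pow, hk]; exact PGrp.pow_mem_map_frattini hF ha⟩, ?_⟩
  set D := (centralizer ((pCore 2 X).map π : Set _)).comap π
  have hD : D ≤ pCore 2 X := Core.le_pCore (Invol.isPGroup_of_forall fun x hx => by
    obtain ⟨k, hk'⟩ := Transfer.exists_pow_coprime_orderOf (p := 2) x
    refine ⟨k, Invol.eq_one_of_odd_of_mem hF (hC (Coprime.le_centralizer_of_commutator_le_frattini (A := zpowers (x ^ 2 ^ k))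
      (by rw [normalizer_eq_top]; exact le_top) ?_ (commutator_le.2 fun a ha b hb => ?_) (mem_zpowers _)))
      (Nat.coprime_two_right.1 hk')⟩
    · rw [Nat.card_zpowers]
      exact (Core.coprime_card_of_isPGroup Nat.prime_two (hF.to_subgroup _) hk').symm
    · rw [← hk, map_commutatorElement, commutatorElement_eq_one_iff_commute]
      exact (zpowers_le.2 (pow_mem hx _) hb) _ ⟨a, ha, rfl⟩)
  intro y hy
  obtain ⟨x, rfl⟩ := QuotientGroup.mk'_surjective _ y
  exact ⟨x, hD hy, rfl⟩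

end Cfsg.Lib.GH4
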